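import Cfsg.Agent.H37.Fold.Basic
import Cfsg.Agent.H37.Weyl.Summary

/-! Machine-generated folding of D4 onto G2 (see `Fold/Basic.lean`). -/
set_option autoImplicit false

namespace Cfsg.Agent.H37.Fold

/-- The tables. -/
def dataD4 : Data where
  img := [[0, 2, 3], [1]]
  proj := [0, 1, 2, 2, 3, 4, 2, 3, 3, 5, 4, 4, 7, 7, 6, 8, 8, 9, 7, 8, 9, 9, 10, 11]
  rho := [0, 1, 6, 2, 7, 10, 3, 8, 4, 9, 11, 5, 18, 12, 14, 19, 15, 20, 13, 16, 21, 17, 22, 23]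

theorem goodD4 : Good dataD4 Weyl.goodD4 Weyl.goodG2 := ⟨by decide +kernel⟩

end Cfsg.Agent.H37.Fold
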