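import Cfsg.Agent.H37.Fold.Basic
import Cfsg.Agent.H37.Weyl.Summary

/-! Machine-generated folding of E6 onto F4 (see `Fold/Basic.lean`). -/
set_option autoImplicit false

namespace Cfsg.Agent.H37.Fold

/-- The tables. -/
def dataE6 : Data where
  img := [[0, 5], [2, 4], [3], [1]]
  proj := [0, 1, 2, 3, 7, 3, 4, 8, 5, 9, 11, 6, 10, 12, 13, 14, 7, 8, 15, 9, 16, 18, 11, 18, 21, 23, 10, 17, 19, 20, 12, 19, 22, 13, 20, 14, 33, 27, 34, 25, 28, 35, 27, 28, 30, 37, 24, 26, 29, 36, 29, 31, 38, 32, 39, 40, 33, 34, 35, 37, 41, 36, 38, 42, 39, 43, 44, 40, 44, 45, 46, 47]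
  rho := [0, 1, 2, 5, 16, 3, 6, 17, 8, 19, 22, 11, 26, 30, 33, 35, 4, 7, 18, 9, 20, 23, 10, 21, 24, 25, 12, 27, 31, 34, 13, 28, 32, 14, 29, 15, 56, 42, 57, 39, 43, 58, 37, 40, 44, 59, 46, 47, 50, 61, 48, 51, 62, 53, 64, 67, 36, 38, 41, 45, 60, 49, 52, 63, 54, 65, 68, 55, 66, 69, 70, 71]

theorem goodE6 : Good dataE6 Weyl.goodE6 Weyl.goodF4 := ⟨by decide +kernel⟩

end Cfsg.Agent.H37.Fold
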