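import Cfsg.Agent.H37.Weyl.Descent

/-!
Folding: the centraliser in a Weyl group of a diagram symmetry with orbits of pairwise orthogonal
fundamental roots, as the Coxeter group of the folded type, with the inversion number.
-/
set_option autoImplicit false

namespace Cfsg.Agent.H37.Fold

open Cfsg.Lie Cfsg.Agent.H37.Weyl

/-- Tables of a folding: the word of each folded generator, the projection of roots and the
symmetry. -/
structure Data where
  img : List (List ℕ)
  proj : List ℕ
  rho : List ℕ

namespace Data

variable (T : Data)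

def word (i : ℕ) : List ℕ := T.img.getD i []
def pr (r : ℕ) : ℕ := T.proj.getD r 0
def rh (r : ℕ) : ℕ := T.rho.getD r 0

variable (C C' : Cert) (D D' : ChevalleyDatum)

def iter (C : Cert) (u v : List ℕ) : ℕ → ℕ → ℕ
  | 0, r => r
  | m + 1, r => C.act u (C.act v (iter C u v m r))

def checkRoot (n' r : ℕ) : Bool :=
  decide (T.pr r < D'.nroots) && decide (T.rh r < D.nroots) &&
  (decide (D'.nroots / 2 ≤ T.pr r) == decide (D.nroots / 2 ≤ r)) &&
  (decide (D.nroots / 2 ≤ T.rh r) == decide (D.nroots / 2 ≤ r)) &&
  ((List.range n').all fun i =>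
    (T.pr (C.act (T.word i) r) == C'.sigma i (T.pr r)) &&
    (C.act (T.word i) (T.rh r) == T.rh (C.act (T.word i) r)))

def checkWord (n i : ℕ) : Bool :=
  let w := T.word i
  decide (0 < w.length) && decide (w.Nodup) && (w.all fun a => decide (a < n)) &&
  (T.pr (D.simple (w.getD 0 0)) == D'.simple i) &&
  ((List.range w.length).all fun j =>
    (T.rh (D.simple (w.getD j 0)) == D.simple (w.getD ((j + 1) % w.length) 0)) &&
    (T.pr (D.simple (w.getD j 0)) == D'.simple i) &&
    (List.range w.length).all fun k =>
      (k == j) || (C.sigma (w.getD j 0) (D.simple (w.getD k 0)) == D.simple (w.getD k 0)))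

def check {n n' : ℕ} (M' : CoxeterMatrix (Fin n')) (_M : CoxeterMatrix (Fin n)) : Bool :=
  (List.range D.nroots).all (T.checkRoot C C' D D' n') &&
  (List.range n').all (T.checkWord C D D' n) &&
  ((List.range n).all fun a => (List.range n').any fun i => decide (a ∈ T.word i)) &&
  ((List.range D'.nroots).all fun y => decide (y ∈ (List.range D.nroots).map T.pr)) &&
  ((List.range n').all fun i => (List.range n').all fun j => (List.range D.nroots).all fun r =>
    Data.iter C (T.word i) (T.word j) (Cert.mEntry M' i j) r == r)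

end Data

/-- A checked folding between two certified Weyl groups. -/
structure Good {n n' : ℕ} (T : Data) {C C' : Cert} {D D' : ChevalleyDatum}
    {M : CoxeterMatrix (Fin n)} {M' : CoxeterMatrix (Fin n')}
    (hC : Weyl.Good C D M) (hC' : Weyl.Good C' D' M') : Prop where
  ok : T.check C C' D D' M' M = true

variable {n n' : ℕ} {T : Data} {C C' : Cert} {D D' : ChevalleyDatum}
  {M : CoxeterMatrix (Fin n)} {M' : CoxeterMatrix (Fin n')}
  {hC : Weyl.Good C D M} {hC' : Weyl.Good C' D' M'}

namespace Good

variable (hT : Good T hC hC')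
include hT

lemma root_spec {r : ℕ} (hr : r < D.nroots) : T.pr r < D'.nroots ∧ T.rh r < D.nroots ∧
    (D'.nroots / 2 ≤ T.pr r ↔ D.nroots / 2 ≤ r) ∧ (D.nroots / 2 ≤ T.rh r ↔ D.nroots / 2 ≤ r) ∧
    ∀ i < n', T.pr (C.act (T.word i) r) = C'.sigma i (T.pr r) ∧
      C.act (T.word i) (T.rh r) = T.rh (C.act (T.word i) r) := by
  have := hT.ok
  simp only [Data.check, Bool.and_eq_true, List.all_eq_true, List.mem_range] at this
  have h := this.1.1.1.1 r hr
  simp only [Data.checkRoot, Bool.and_eq_true, decide_eq_true_eq, beq_iff_eq, decide_eq_decide,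
    List.all_eq_true, List.mem_range] at h
  exact ⟨h.1.1.1.1, h.1.1.1.2, h.1.1.2, h.1.2, h.2⟩

lemma word_spec {i : ℕ} (hi : i < n') : 0 < (T.word i).length ∧ (T.word i).Nodup ∧
    (∀ a ∈ T.word i, a < n) ∧ (∀ j < (T.word i).length,
      T.rh (D.simple ((T.word i).getD j 0))
        = D.simple ((T.word i).getD ((j + 1) % (T.word i).length) 0) ∧
      T.pr (D.simple ((T.word i).getD j 0)) = D'.simple i ∧
      ∀ k < (T.word i).length, k ≠ j →
        C.sigma ((T.word i).getD j 0) (D.simple ((T.word i).getD k 0))
          = D.simple ((T.word i).getD k 0)) := by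
  have := hT.ok
  simp only [Data.check, Bool.and_eq_true, List.all_eq_true, List.mem_range] at this
  have h := this.1.1.1.2 i hi
  simp only [Data.checkWord, Bool.and_eq_true, decide_eq_true_eq, beq_iff_eq, Bool.or_eq_true,
    List.all_eq_true, List.mem_range] at h
  obtain ⟨⟨⟨⟨h1, h2⟩, h3⟩, -⟩, h5⟩ := h
  exact ⟨h1, h2, h3, fun j hj => ⟨(h5 j hj).1.1, (h5 j hj).1.2, fun k hk hne =>
    ((h5 j hj).2 k hk).resolve_left hne⟩⟩

lemma covered {a : ℕ} (ha : a < n) : ∃ i < n', a ∈ T.word i := by
  have := hT.ok
  simp only [Data.check, Bool.and_eq_true, List.all_eq_true, List.mem_range, List.any_eq_true,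
    decide_eq_true_eq] at this
  exact this.1.1.2 a ha

lemma proj_surj {y : ℕ} (hy : y < D'.nroots) : ∃ r < D.nroots, T.pr r = y := by
  have := hT.ok
  simp only [Data.check, Bool.and_eq_true, List.all_eq_true, List.mem_range,
    decide_eq_true_eq, List.mem_map] at this
  exact this.1.2 y hy

lemma liftable : M'.IsLiftable fun i : Fin n' => wOf M (T.word i.val) := by
  intro i j
  apply hC.hom_injective
  ext r
  have h := hT.ok
  simp only [Data.check, Bool.and_eq_true, List.all_eq_true, List.mem_range, beq_iff_eq] at h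
  have h' := h.2 i.val i.isLt j.val j.isLt r.val r.isLt
  simp only [Cert.mEntry, i.isLt, j.isLt, and_self, dite_true, Fin.eta] at h'
  rw [map_pow, map_mul, map_one, Equiv.Perm.one_apply]
  have key : ∀ m : ℕ, (((hC.hom (wOf M (T.word i.val)) * hC.hom (wOf M (T.word j.val))) ^ m) r).val
      = Data.iter C (T.word i.val) (T.word j.val) m r.val := by
    intro m
    induction m with
    | zero => simp [Data.iter]
    | succ m ih =>
        rw [pow_succ', Equiv.Perm.mul_apply, Equiv.Perm.mul_apply,
          hC.hom_wOf_val (hT.word_spec i.isLt).2.2.1, hC.hom_wOf_val (hT.word_spec j.isLt).2.2.1,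
          ih]
        rfl
  rw [key, h']

/-- The inclusion of the folded group. -/
def incl : M'.Group →* M.Group :=
  M'.toCoxeterSystem.lift ⟨fun i : Fin n' => wOf M (T.word i.val), hT.liftable⟩

lemma incl_gen {i : ℕ} (hi : i < n') : hT.incl (gen M' i) = wOf M (T.word i) := by
  unfold Weyl.gen
  rw [dif_pos hi]
  exact M'.toCoxeterSystem.lift_apply_simple hT.liftable ⟨i, hi⟩

lemma proj_incl (g : M'.Group) :
    ∀ r : Fin D.nroots, T.pr (hC.hom (hT.incl g) r).val
        = (hC'.hom g ⟨T.pr r.val, (hT.root_spec r.isLt).1⟩).val ∧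
      (hC.hom (hT.incl g) ⟨T.rh r.val, (hT.root_spec r.isLt).2.1⟩).val
        = T.rh (hC.hom (hT.incl g) r).val := by
  induction g using M'.toCoxeterSystem.simple_induction_left with
  | one => intro r; simp
  | mul_simple_left g i ih =>
      intro r
      have hg : M'.toCoxeterSystem.simple i = gen M' i.val := by
        unfold Weyl.gen; rw [dif_pos i.isLt]; rfl
      rw [hg, map_mul, map_mul, hT.incl_gen i.isLt]
      set x := hC.hom (hT.incl g) r
      obtain ⟨h1, h2⟩ := ((hT.root_spec x.isLt).2.2.2.2 i.val i.isLt)
      constructor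
      · rw [Equiv.Perm.mul_apply, hC.hom_wOf_val (hT.word_spec i.isLt).2.2.1, h1, map_mul,
          Equiv.Perm.mul_apply, hC'.hom_gen_val i.isLt, (ih r).1]
      · rw [Equiv.Perm.mul_apply, Equiv.Perm.mul_apply,
          hC.hom_wOf_val (hT.word_spec i.isLt).2.2.1, hC.hom_wOf_val (hT.word_spec i.isLt).2.2.1,
          (ih r).2, h2]

lemma incl_injective : Function.Injective hT.incl := by
  rw [injective_iff_map_eq_one]
  intro g hg
  apply hC'.hom_injective
  ext y
  obtain ⟨r, hr, hy⟩ := hT.proj_surj y.isLt
  have := (hT.proj_incl g ⟨r, hr⟩).1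
  rw [hg, map_one, Equiv.Perm.one_apply] at this
  simp only [hy, Fin.eta] at this
  rw [map_one, Equiv.Perm.one_apply, ← this]

/-- Ascending along the word of a folded generator adds its length. -/
lemma inv_mul_word_asc {h : M.Group} {i : ℕ} (hi : i < n') (v : List ℕ) :
    (∀ a ∈ v, a ∈ T.word i) → v.Nodup →
    (∀ a ∈ v, ∀ ha : a < n,
      D.nroots / 2 ≤ (hC.hom h ⟨D.simple a, (hC.simple_spec ha).2.1⟩).val) →
    hC.inv (h * wOf M v) = hC.inv h + v.length := by
  induction v generalizing h with
  | nil => intros; simp [wOf_nil]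
  | cons a v ih =>
      intro hmem hnd hpos
      have ha : a < n := (hT.word_spec hi).2.2.1 a (hmem a (by simp))
      rw [wOf_cons, ← mul_assoc, ih (fun b hb => hmem b (by simp [hb])) (List.nodup_cons.1 hnd).2,
        hC.inv_mul_gen ha (hpos a (by simp) ha), List.length_cons]
      · omega
      · intro b hb hbn
        obtain ⟨j, hj, hje⟩ := List.getElem_of_mem (hmem a (by simp))
        obtain ⟨k, hk, hke⟩ := List.getElem_of_mem (hmem b (by simp [hb]))
        have hne : k ≠ j := fun e => (List.nodup_cons.1 hnd).1 (by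
          subst e; rw [hje] at hke; exact hke ▸ hb)
        have hfix := ((hT.word_spec hi).2.2.2 j hj).2.2 k hk hne
        rw [List.getD_eq_getElem _ _ hj, List.getD_eq_getElem _ _ hk, hje, hke] at hfix
        rw [map_mul, Equiv.Perm.mul_apply]
        have : hC.hom (gen M a) ⟨D.simple b, (hC.simple_spec hbn).2.1⟩
            = ⟨D.simple b, (hC.simple_spec hbn).2.1⟩ :=
          Fin.ext (by rw [hC.hom_gen_val ha]; exact hfix)
        rw [this]
        exact hpos b (by simp [hb]) hbn

lemma member_proj {i a : ℕ} (hi : i < n') (hm : a ∈ T.word i) :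
    T.pr (D.simple a) = D'.simple i := by
  obtain ⟨j, hj, hje⟩ := List.getElem_of_mem hm
  have := ((hT.word_spec hi).2.2.2 j hj).2.1
  rwa [List.getD_eq_getElem _ _ hj, hje] at this

/-- Ascending by a folded generator. -/
lemma inv_incl_mul_gen {g : M'.Group} {i : ℕ} (hi : i < n')
    (hp : D'.nroots / 2 ≤ (hC'.hom g ⟨D'.simple i, (hC'.simple_spec hi).2.1⟩).val) :
    hC.inv (hT.incl (g * gen M' i)) = hC.inv (hT.incl g) + (T.word i).length := by
  rw [map_mul, hT.incl_gen hi]
  refine hT.inv_mul_word_asc hi _ (fun _ h => h) (hT.word_spec hi).2.1 ?_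
  intro a hm ha
  have h := (hT.proj_incl g ⟨D.simple a, (hC.simple_spec ha).2.1⟩).1
  simp only [hT.member_proj hi hm] at h
  rw [← h] at hp
  exact (hT.root_spec (Fin.isLt _)).2.2.1.1 hp

/-- Every element commuting with the symmetry comes from the folded group. -/
theorem mem_range_incl {g : M.Group}
    (hg : ∀ r : Fin D.nroots, (hC.hom g ⟨T.rh r.val, (hT.root_spec r.isLt).2.1⟩).val
      = T.rh (hC.hom g r).val) : g ∈ hT.incl.range := by
  induction hN : hC.inv g using Nat.strong_induction_on generalizing g with
  | _ N ih =>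
    subst hN
    by_cases h1 : g = 1
    · subst h1; exact one_mem _
    obtain ⟨a, ha, hneg⟩ := hC.exists_descent h1
    obtain ⟨i, hi, hai⟩ := hT.covered ha
    obtain ⟨hpos, hnd, hlt, hw⟩ := hT.word_spec hi
    set w := T.word i
    obtain ⟨j₀, hj₀, hj₀e⟩ := List.getElem_of_mem hai
    have hall : ∀ m, ∀ hb : w.getD ((j₀ + m) % w.length) 0 < n,
        (hC.hom g ⟨D.simple (w.getD ((j₀ + m) % w.length) 0), (hC.simple_spec hb).2.1⟩).val
          < D.nroots / 2 := by
      intro m
      induction m with
      | zero =>
          intro hb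
          simp only [Nat.add_zero, Nat.mod_eq_of_lt hj₀, List.getD_eq_getElem _ _ hj₀, hj₀e]
          exact hneg
      | succ m ihm =>
          intro hb
          have hjm : (j₀ + m) % w.length < w.length := Nat.mod_lt _ hpos
          have hbm : w.getD ((j₀ + m) % w.length) 0 < n := by
            rw [List.getD_eq_getElem _ _ hjm]; exact hlt _ (List.getElem_mem _)
          set x : Fin D.nroots := ⟨_, (hC.simple_spec hbm).2.1⟩
          have hrh : T.rh x.val = D.simple (w.getD ((j₀ + (m + 1)) % w.length) 0) := by
            have := (hw _ hjm).1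
            rw [this, Nat.mod_add_mod, Nat.add_assoc]
          have h := hg x
          have hx : (⟨T.rh x.val, (hT.root_spec x.isLt).2.1⟩ : Fin D.nroots)
              = ⟨_, (hC.simple_spec hb).2.1⟩ := Fin.ext hrh
          rw [hx] at h
          rw [h]
          have := (hT.root_spec (hC.hom g x).isLt).2.2.2.1
          have : (hC.hom g x).val < D.nroots / 2 := ihm hbm
          omega
    have hneg' : ∀ b ∈ w, ∀ hb : b < n,
        (hC.hom g ⟨D.simple b, (hC.simple_spec hb).2.1⟩).val < D.nroots / 2 := by
      intro b hb hbn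
      obtain ⟨k, hk, hke⟩ := List.getElem_of_mem hb
      have hk' : (j₀ + (w.length + k - j₀)) % w.length = k := by
        rw [show j₀ + (w.length + k - j₀) = w.length + k by omega, Nat.add_mod_left,
          Nat.mod_eq_of_lt hk]
      have h := hall (w.length + k - j₀)
        (by rw [hk', List.getD_eq_getElem _ _ hk, hke]; exact hbn)
      simp only [hk', List.getD_eq_getElem _ _ hk, hke] at h
      exact h
    set g' := g * wOf M w
    have hlow : ∀ (v : List ℕ) (h : M.Group), (∀ b ∈ v, b ∈ w) → v.Nodup →
        (∀ b ∈ v, ∀ hb : b < n,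
          (hC.hom h ⟨D.simple b, (hC.simple_spec hb).2.1⟩).val < D.nroots / 2) →
        hC.inv (h * wOf M v) + v.length = hC.inv h := by
      intro v
      induction v with
      | nil => intros; simp [wOf_nil]
      | cons c v ihv =>
          intro h hmem hnd' hneg''
          have hc : c < n := hlt c (hmem c (by simp))
          have e := hC.inv_mul_gen_neg hc (hneg'' c (by simp) hc)
          have e' := ihv (h * gen M c) (fun b hb => hmem b (by simp [hb]))
            (List.nodup_cons.1 hnd').2 (fun b hb hbn => by
              obtain ⟨j, hj, hje⟩ := List.getElem_of_mem (hmem c (by simp))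
              obtain ⟨k, hk, hke⟩ := List.getElem_of_mem (hmem b (by simp [hb]))
              have hne : k ≠ j := fun e => (List.nodup_cons.1 hnd').1 (by
                subst e; rw [hje] at hke; exact hke ▸ hb)
              have hfix := (hw j hj).2.2 k hk hne
              rw [List.getD_eq_getElem _ _ hj, List.getD_eq_getElem _ _ hk, hje, hke] at hfix
              rw [map_mul, Equiv.Perm.mul_apply]
              have : hC.hom (gen M c) ⟨D.simple b, (hC.simple_spec hbn).2.1⟩
                  = ⟨D.simple b, (hC.simple_spec hbn).2.1⟩ :=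
                Fin.ext (by rw [hC.hom_gen_val hc]; exact hfix)
              rw [this]
              exact hneg'' b (by simp [hb]) hbn)
          rw [wOf_cons, ← mul_assoc, List.length_cons]
          omega
    have hlt' : hC.inv g' < hC.inv g := by
      have : hC.inv g' + w.length = hC.inv g := hlow w g (fun _ h => h) hnd hneg'
      omega
    have hg' : g' ∈ hT.incl.range := by
      refine ih _ hlt' (fun r => ?_) rfl
      simp only [g', map_mul, Equiv.Perm.mul_apply]
      have hwl : ∀ c ∈ T.word i, c < n := hlt
      set y := hC.hom (wOf M w) r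
      have hy : hC.hom (wOf M w) ⟨T.rh r.val, (hT.root_spec r.isLt).2.1⟩
          = ⟨T.rh y.val, (hT.root_spec y.isLt).2.1⟩ := Fin.ext (by
        show _ = T.rh y.val
        rw [hC.hom_wOf_val hwl, hC.hom_wOf_val hwl]
        exact ((hT.root_spec r.isLt).2.2.2.2 i hi).2)
      rw [hy]
      exact hg y
    have hgw : g = g' * hT.incl (gen M' i)⁻¹ := by
      rw [map_inv, hT.incl_gen hi]; simp [g', w]
    rw [hgw]
    exact mul_mem hg' ⟨_, rfl⟩

/-- The range of the inclusion is exactly the centraliser of the symmetry. -/
theorem mem_range_incl_iff {g : M.Group} : g ∈ hT.incl.range ↔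
    ∀ r : Fin D.nroots, (hC.hom g ⟨T.rh r.val, (hT.root_spec r.isLt).2.1⟩).val
      = T.rh (hC.hom g r).val :=
  ⟨by rintro ⟨x, rfl⟩ r; exact (hT.proj_incl x r).2, hT.mem_range_incl⟩

omit hT in
/-- The step polynomial with weighted letters. -/
def weightedStep {R : Type*} [CommSemiring R] (T : Data) (C' : Cert) (k : ℕ) (q : R) : R :=
  ((lev C' k).words.map fun w => q ^ (w.map fun i => (T.word i).length).sum).sum

lemma inv_incl_mul_word (v : List ℕ) : (∀ j ∈ v, j < n') → ∀ g : M'.Group,
    hC'.inv (g * wOf M' v) = hC'.inv g + v.length →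
    hC.inv (hT.incl (g * wOf M' v))
      = hC.inv (hT.incl g) + (v.map fun i => (T.word i).length).sum := by
  induction v with
  | nil => intros; simp [wOf_nil]
  | cons c v ih =>
      intro hv g hlen
      have hc := hv c (by simp)
      have hstep : ∀ (y : M'.Group) (j : ℕ), j < n' → hC'.inv (y * gen M' j) ≤ hC'.inv y + 1 := by
        intro y j hj
        by_cases hy : (hC'.hom y ⟨D'.simple j, (hC'.simple_spec hj).2.1⟩).val < D'.nroots / 2
        · have := hC'.inv_mul_gen_neg hj hy; omega
        · have := hC'.inv_mul_gen hj (g := y) (by omega); omega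
      have hle : ∀ (u : List ℕ), (∀ j ∈ u, j < n') → ∀ y,
          hC'.inv (y * wOf M' u) ≤ hC'.inv y + u.length := by
        intro u
        induction u with
        | nil => intro _ y; simp [wOf_nil]
        | cons j u ihu =>
            intro hu y
            rw [wOf_cons, ← mul_assoc, List.length_cons]
            have := ihu (fun l hl => hu l (by simp [hl])) (y * gen M' j)
            have := hstep y j (hu j (by simp))
            omega
      rw [wOf_cons, ← mul_assoc, List.length_cons] at hlen
      have h1 := hle v (fun j hj => hv j (by simp [hj])) (g * gen M' c)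
      have h2 := hstep g c hc
      have hasc : D'.nroots / 2 ≤ (hC'.hom g ⟨D'.simple c, (hC'.simple_spec hc).2.1⟩).val := by
        by_contra hcon
        have := hC'.inv_mul_gen_neg hc (g := g) (by omega)
        omega
      rw [wOf_cons, ← mul_assoc, ih (fun j hj => hv j (by simp [hj])) (g * gen M' c) (by omega),
        hT.inv_incl_mul_gen hc hasc, List.map_cons, List.sum_cons]
      omega

theorem sum_pow_inv_K {R : Type*} [CommSemiring R] (q : R) [Fintype M'.Group] {k : ℕ}
    (hk : k ≤ n') [Fintype ↥(K M' k)] :
    ∑ g : ↥(K M' k), q ^ hC.inv (hT.incl g.1)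
      = ∏ j ∈ Finset.range k, weightedStep T C' j q := by
  classical
  revert ‹Fintype ↥(K M' k)›
  induction k with
  | zero =>
      intro _
      have : Subsingleton ↥(K M' 0) := by rw [K_zero]; infer_instance
      rw [Fintype.sum_subsingleton _ (1 : ↥(K M' 0))]
      simp [hC.inv_one]
  | succ k ih =>
      intro _
      have hk' : k < n' := by omega
      rw [← (hC'.step hk').sum_comp, Fintype.sum_prod_type, Finset.prod_range_succ,
        ← ih (by omega), Finset.sum_comm, Finset.sum_mul]
      refine Finset.sum_congr rfl fun g _ => ?_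
      have hs : weightedStep T C' k q = ∑ a : Fin (lev C' k).words.length,
          q ^ (((lev C' k).words[a.val]).map fun i => (T.word i).length).sum := by
        simp only [weightedStep]
        rw [← Fin.sum_univ_fun_getElem (lev C' k).words
          fun w => q ^ (w.map fun i => (T.word i).length).sum]
      rw [hs, Finset.mul_sum]
      refine Finset.sum_congr rfl fun a _ => ?_
      have hmem : (lev C' k).words[a.val] ∈ (lev C' k).words := List.getElem_mem a.isLt
      show q ^ hC.inv (hT.incl (g.1 * wOf M' ((lev C' k).word a.val))) = _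
      rw [Level.word_eq _ a.isLt, hT.inv_incl_mul_word _
        (fun j hj => by have := (hC'.word_spec hk' hmem).1 j hj; omega) _
        (by rw [hC'.inv_mul_word hk' hmem g.2, hC'.inv_word hk' hmem]), pow_add]

theorem sum_pow_inv {R : Type*} [CommSemiring R] (q : R) [Fintype M'.Group] :
    ∑ g : M'.Group, q ^ hC.inv (hT.incl g) = ∏ j ∈ Finset.range n', weightedStep T C' j q := by
  classical
  rw [← hT.sum_pow_inv_K q le_rfl]
  exact ((Equiv.subtypeUnivEquiv (fun g => by rw [K_top]; trivial)).sum_comp
    fun g : M'.Group => q ^ hC.inv (hT.incl g)).symm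

end Good

end Cfsg.Agent.H37.Fold
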