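import Cfsg.Agent.H37.Weyl.Summary
import Cfsg.Agent.H37.Isog.F4
import Cfsg.Agent.H37.Isog.G2

/-!
The centraliser in a small Weyl group of a permutation of the roots, by complete enumeration:
the two foldings that exchange long and short roots.
-/
set_option autoImplicit false

namespace Cfsg.Agent.H37.Fold

open Cfsg.Lie Cfsg.Agent.H37.Weyl

/-- Normal-form words of `K k`. -/
def allWords (C : Cert) : ℕ → List (List ℕ)
  | 0 => [[]]
  | k + 1 => (allWords C k).flatMap fun u => (lev C k).words.map (u ++ ·)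

variable {n : ℕ} {M : CoxeterMatrix (Fin n)} {C : Cert} {D : ChevalleyDatum}

theorem exists_allWords (hC : Weyl.Good C D M) {k : ℕ} (hk : k ≤ n) :
    ∀ g ∈ K M k, ∃ w ∈ allWords C k, g = wOf M w ∧ ∀ i ∈ w, i < n := by
  induction k with
  | zero =>
      intro g hg
      rw [K_zero, Subgroup.mem_bot] at hg
      exact ⟨[], by simp [allWords], by simp [hg, wOf_nil], by simp⟩
  | succ k ih =>
      intro g hg
      have hk' : k < n := by omega
      obtain ⟨⟨a, g'⟩, he⟩ := (hC.step hk').surjective ⟨g, hg⟩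
      have he' : g'.1 * wOf M ((lev C k).word a.val) = g := congrArg Subtype.val he
      rw [Level.word_eq _ a.isLt] at he'
      obtain ⟨u, hu, hgu, hlt⟩ := ih (by omega) g'.1 g'.2
      have hmem : (lev C k).words[a.val] ∈ (lev C k).words := List.getElem_mem a.isLt
      refine ⟨u ++ (lev C k).words[a.val], ?_, by rw [wOf_append, ← hgu, he'], ?_⟩
      · simp only [allWords, List.mem_flatMap, List.mem_map]
        exact ⟨u, hu, _, hmem, rfl⟩
      · intro i hi
        rcases List.mem_append.1 hi with h | h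
        · exact hlt i h
        · have := (hC.word_spec hk' hmem).1 i h; omega

/-- Every element commuting with `rho` on the roots is one of the listed words. -/
def centCheck (C : Cert) (D : ChevalleyDatum) (n : ℕ) (rho : List ℕ) (ws : List (List ℕ)) : Bool :=
  ((List.range n).all fun i => decide (D.simple i < D.nroots)) &&
  ((List.range D.nroots).all fun r => decide (rho.getD r 0 < D.nroots)) &&
  (ws.all fun w => (w.all fun i => decide (i < n)) &&
    (List.range D.nroots).all fun r => C.act w (rho.getD r 0) == rho.getD (C.act w r) 0) &&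
  decide ((ws.map fun w => (List.range D.nroots).map (C.act w)).Nodup) &&
  (allWords C n).all fun u =>
    ((List.range n).any fun i =>
      C.act u (rho.getD (D.simple i) 0) != rho.getD (C.act u (D.simple i)) 0) ||
    (ws.any fun w => (List.range D.nroots).all fun r => C.act u r == C.act w r)

theorem mem_of_centCheck (hC : Weyl.Good C D M) {rho : List ℕ} {ws : List (List ℕ)}
    (h : centCheck C D n rho ws = true) {g : M.Group}
    (hg : ∀ r : Fin D.nroots, ∀ hr : rho.getD r.val 0 < D.nroots,
      (hC.hom g ⟨rho.getD r.val 0, hr⟩).val = rho.getD (hC.hom g r).val 0) :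
    ∃ w ∈ ws, g = wOf M w := by
  obtain ⟨u, hu, hgu, hlt⟩ :=
    exists_allWords hC le_rfl g (by rw [K_top]; exact Subgroup.mem_top g)
  simp only [centCheck, Bool.and_eq_true, List.all_eq_true, List.mem_range, decide_eq_true_eq,
    Bool.or_eq_true, List.any_eq_true, bne_iff_ne, beq_iff_eq] at h
  obtain ⟨⟨⟨⟨hs, hr⟩, hw⟩, -⟩, hall⟩ := h
  rcases hall u hu with ⟨i, hi, hne⟩ | ⟨w, hwm, heq⟩
  · exfalso
    apply hne
    have := hg ⟨D.simple i, hs i hi⟩ (hr _ (hs i hi))
    rw [hgu, hC.hom_wOf_val hlt, hC.hom_wOf_val hlt] at this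
    exact this
  · refine ⟨w, hwm, hC.hom_injective (Equiv.ext fun r => Fin.ext ?_)⟩
    rw [hgu, hC.hom_wOf_val hlt, hC.hom_wOf_val (hw w hwm).1]
    exact heq r.val r.isLt

/-- The products of `[0, 3]` and `[1, 2, 1, 2]`: the dihedral group of order 16 inside `W(F₄)`. -/
def wordsF4 : List (List ℕ) :=
  let a := [0, 3]
  let b := [1, 2, 1, 2]
  [[], a, b, a ++ b, b ++ a, a ++ b ++ a, b ++ a ++ b, a ++ b ++ a ++ b, b ++ a ++ b ++ a,
    a ++ b ++ a ++ b ++ a, b ++ a ++ b ++ a ++ b, a ++ b ++ a ++ b ++ a ++ b,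
    b ++ a ++ b ++ a ++ b ++ a, a ++ b ++ a ++ b ++ a ++ b ++ a, b ++ a ++ b ++ a ++ b ++ a ++ b,
    a ++ b ++ a ++ b ++ a ++ b ++ a ++ b]

/-- The two elements of the folded group inside `W(G₂)`. -/
def wordsG2 : List (List ℕ) := [[], [0, 1, 0, 1, 0, 1]]

theorem centF4 : centCheck certF4 chevF4 4 Isog.dataF4.rho wordsF4 = true := by decide +kernel

theorem centG2 : centCheck certG2 chevG2 2 Isog.dataG2.rho wordsG2 = true := by decide +kernel

end Cfsg.Agent.H37.Fold
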